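-- vendored copy of helper26's Groth/Agent/H26/ExtRegular.lean (namespace renamed), so that this module does not depend on another seat's file.
import Mathlib.RingTheory.Depth.Rees

set_option autoImplicit false
universe u

open LinearMap RingTheory.Sequence Ideal CategoryTheory Abelian Limits Pointwise IsSMulRegular ModuleCat

namespace Groth.Agent.H70.Acyc

variable {R : Type u} [CommRing R]

/-- `Ext^i(N, M) = 0` for `i < r` if `f₁,…,f_r` is a weakly `M`-regular sequence each of whose
elements has a power annihilating `N`; no finiteness assumptions. -/
theorem subsingleton_ext_of_isWeaklyRegular (N : ModuleCat.{u} R) (M : ModuleCat.{u} R)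
    (rs : List R) (mem : ∀ r ∈ rs, ∃ k : ℕ, r ^ k ∈ Module.annihilator R N)
    (reg : IsWeaklyRegular M rs) :
    ∀ i < rs.length, Subsingleton (Ext N M i) := by
  generalize len : rs.length = n
  induction n generalizing M rs with
  | zero => simp
  | succ n ih =>
    rintro i hi
    match rs with
    | [] => simp at len
    | a :: rs' =>
      obtain ⟨k, hk⟩ := mem a List.mem_cons_self
      simp only [isWeaklyRegular_cons_iff] at reg
      simp only [List.mem_cons, forall_eq_or_imp] at mem
      simp only [List.length_cons, Nat.add_left_inj] at len
      match i with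
      | 0 =>
        have : Subsingleton (N →ₗ[R] M) :=
          linearMap_subsingleton_of_mem_annihilator (reg.1.pow k) hk
        exact (Ext.addEquiv₀.trans ModuleCat.homAddEquiv).subsingleton
      | i + 1 =>
        let g := (AddCommGrpCat.ofHom ((Ext.mk₀ (smulShortComplex M a).f).postcomp N
          (add_zero (i + 1))))
        have mono_g : Mono g := by
          apply (Ext.covariant_sequence_exact₁' N reg.1.smulShortComplex_shortExact i (i + 1)
            rfl).mono_g ((AddCommGrpCat.isZero_of_iff_subsingleton.mpr ?_).eq_zero_of_src _)
          exact ih (ModuleCat.of R (QuotSMulTop a M)) rs' mem.2 reg.2 len i (by omega)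
        let gk := AddCommGrpCat.ofHom ((Ext.mk₀ (M.smulShortComplex (a ^ k)).f).postcomp N
          (add_zero (i + 1)))
        have mono_gk : Mono gk := by
          simp only [smulShortComplex_f_eq_smul_id, g, gk] at mono_g ⊢
          exact (Ext.postcomp_smul_id_mono_iff (a ^ k) (i + 1)).mpr <|
            ((Ext.postcomp_smul_id_mono_iff a (i + 1)).mp mono_g).pow k
        have zero_gk : gk = 0 := Ext.postcomp_smul_id_eq_zero_of_mem_annihilator hk (i + 1)
        exact AddCommGrpCat.subsingleton_of_isZero (IsZero.of_mono_eq_zero _ zero_gk)

end Groth.Agent.H70.Acyc
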