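import Mathlib
import Groth.Agent.Lead.RegularLocal3
import Groth.Agent.H70.Acyc.ExtRegular
import Groth.Agent.H70.Planar.Free
import Groth.Agent.H70.Planar.SES

/-!
helper70 library: `Ext`-depth bookkeeping against the residue field of a regular local ring, used for
the acyclicity lemma.
-/

set_option autoImplicit false
universe u
open CategoryTheory Abelian IsLocalRing

namespace Groth.Agent.H70.Acyc

open Groth.Agent.H70.Planar

section generalD

variable {R : Type u} [CommRing R]

/-- `Ext^l(K, X) = 0` for `l < n` -/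
def D (K : ModuleCat.{u} R) (n : ℕ) (X : ModuleCat.{u} R) : Prop :=
  ∀ l < n, Subsingleton (Ext K X l)

variable {K : ModuleCat.{u} R}

theorem D.mono {n m : ℕ} {X : ModuleCat.{u} R} (h : D K n X) (hm : m ≤ n) : D K m X :=
  fun l hl => h l (lt_of_lt_of_le hl hm)

theorem D.of_iso {n : ℕ} {X Y : ModuleCat.{u} R} (h : D K n X) (e : X ≅ Y) : D K n Y := by
  intro l hl
  haveI := h l hl
  refine ⟨fun a b => ?_⟩
  have key : ∀ y : Ext K Y l, y = 0 := by
    intro y
    have h1 : y = (y.comp (Ext.mk₀ e.inv) (add_zero l)).comp (Ext.mk₀ e.hom) (add_zero l) := by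
      rw [Ext.comp_assoc_of_third_deg_zero, Ext.mk₀_comp_mk₀, e.inv_hom_id, Ext.comp_mk₀_id]
    rw [h1, Subsingleton.elim (y.comp (Ext.mk₀ e.inv) (add_zero l)) 0, Ext.zero_comp]
  rw [key a, key b]

theorem D.of_subsingleton (n : ℕ) (X : ModuleCat.{u} R) [Subsingleton X] : D K n X := by
  intro l _
  refine ⟨fun a b => ?_⟩
  have key : ∀ y : Ext K X l, y = 0 := by
    intro y
    have h0 : 𝟙 X = 0 := by
      ext a
      exact Subsingleton.elim _ _
    rw [← Ext.comp_mk₀_id y, h0, Ext.mk₀_zero, Ext.comp_zero]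
  rw [key a, key b]

theorem D.X₃ {n : ℕ} {S : ShortComplex (ModuleCat.{u} R)} (hS : S.ShortExact)
    (h2 : D K n S.X₂) (h1 : D K (n + 1) S.X₁) : D K n S.X₃ := by
  intro l hl
  haveI := h2 l hl
  haveI := h1 (l + 1) (by omega)
  refine ⟨fun a b => ?_⟩
  have key : ∀ y : Ext K S.X₃ l, y = 0 := by
    intro y
    obtain ⟨x₂, hx₂⟩ := Ext.covariant_sequence_exact₃ K hS y (rfl : l + 1 = l + 1)
      (Subsingleton.elim _ _)
    rw [← hx₂, Subsingleton.elim x₂ 0, Ext.zero_comp]
  rw [key a, key b]

theorem D.X₁_one {S : ShortComplex (ModuleCat.{u} R)} (hf : Mono S.f)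
    (h2 : D K 1 S.X₂) : D K 1 S.X₁ := by
  intro l hl
  obtain rfl : l = 0 := by omega
  haveI := h2 0 Nat.one_pos
  refine ⟨fun a b => ?_⟩
  have key : ∀ y : Ext K S.X₁ 0, y = 0 := by
    intro y
    obtain ⟨φ, rfl⟩ := (Ext.mk₀_bijective _ _).2 y
    have h3 : Ext.mk₀ (φ ≫ S.f) = 0 := Subsingleton.elim _ _
    rw [Ext.mk₀_eq_zero_iff] at h3
    have h4 : φ = 0 := by
      rw [← cancel_mono S.f, h3, Limits.zero_comp]
    rw [h4, Ext.mk₀_zero]
  rw [key a, key b]

end generalD

section local_

variable (R : Type u) [CommRing R] [IsLocalRing R]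

/-- the residue field as an object of `ModuleCat R` -/
noncomputable abbrev kk : ModuleCat.{u} R := ModuleCat.of R (R ⧸ maximalIdeal R)

variable {R}

theorem socleFree_of_D {X : Type u} [AddCommGroup X] [Module R X]
    (h : D (kk R) 1 (ModuleCat.of R X)) : SocleFree R X := by
  intro z hz
  haveI := h 0 Nat.one_pos
  let φ : (R ⧸ maximalIdeal R) →ₗ[R] X :=
    Submodule.liftQ (maximalIdeal R) (LinearMap.toSpanSingleton R X z) (by
      intro r hr
      rw [LinearMap.mem_ker, LinearMap.toSpanSingleton_apply]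
      exact hz r hr)
  have h3 : Ext.mk₀ (ModuleCat.ofHom φ) = (0 : Ext (kk R) (ModuleCat.of R X) 0) :=
    Subsingleton.elim _ _
  rw [Ext.mk₀_eq_zero_iff] at h3
  have h4 := congrArg (fun f => f.hom (Submodule.Quotient.mk (1 : R))) h3
  change LinearMap.toSpanSingleton R X z 1 = 0 at h4
  simpa using h4

theorem subsingleton_of_socleFree_of_isFiniteLength {X : Type u} [AddCommGroup X] [Module R X]
    (h : SocleFree R X) (hfl : IsFiniteLength R X) : Subsingleton X := by
  rw [isFiniteLength_iff_isNoetherian_isArtinian] at hfl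
  obtain ⟨hN, hA⟩ := hfl
  -- the chain `m^n • ⊤` stabilises
  let c : ℕ →o (Submodule R X)ᵒᵈ :=
    ⟨fun n => OrderDual.toDual (maximalIdeal R ^ n • (⊤ : Submodule R X)), by
      intro a b hab
      change maximalIdeal R ^ b • (⊤ : Submodule R X) ≤ maximalIdeal R ^ a • ⊤
      exact Submodule.smul_mono_left (Ideal.pow_le_pow_right hab)⟩
  obtain ⟨n, hn⟩ := IsArtinian.monotone_stabilizes c
  have h1 : maximalIdeal R ^ n • (⊤ : Submodule R X) =
      maximalIdeal R • (maximalIdeal R ^ n • (⊤ : Submodule R X)) := by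
    have := hn (n + 1) (Nat.le_succ n)
    change maximalIdeal R ^ n • (⊤ : Submodule R X) = maximalIdeal R ^ (n + 1) • ⊤ at this
    rw [← mul_smul, ← pow_succ']
    exact this
  have h2 : maximalIdeal R ^ n • (⊤ : Submodule R X) = ⊥ := by
    apply Submodule.eq_bot_of_le_smul_of_le_jacobson_bot (maximalIdeal R) _
      (IsNoetherian.noetherian _) (le_of_eq h1)
    exact IsLocalRing.maximalIdeal_le_jacobson _
  refine ⟨fun a b => ?_⟩
  have key : ∀ z : X, z = 0 := by
    intro z
    apply eq_zero_of_pow_smul h n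
    intro r hr
    have : r • z ∈ maximalIdeal R ^ n • (⊤ : Submodule R X) :=
      Submodule.smul_mem_smul hr trivial
    rw [h2] at this
    exact (Submodule.mem_bot R).mp this
  rw [key a, key b]

end local_

section regular

open RingTheory.Sequence

theorem exists_generators (R : Type u) [CommRing R] [IsRegularLocalRing R] (g : ℕ)
    (hg : ringKrullDim R = g) :
    ∃ x : Fin g → R, Ideal.span (Set.range x) = maximalIdeal R := by
  classical
  have hsf : (maximalIdeal R).spanFinrank = g := by
    have := Groth.Agent.Lead.RLR.ringKrullDim_eq_spanFinrank R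
    rw [hg] at this
    exact_mod_cast this.symm
  have hfg : (maximalIdeal R).FG := IsNoetherian.noetherian _
  have hfin := Submodule.FG.finite_generators hfg
  have hcard : hfin.toFinset.card = g := by
    rw [← Set.ncard_eq_toFinset_card _ hfin, Submodule.FG.generators_ncard hfg, hsf]
  obtain ⟨x, hx⟩ := Groth.Agent.Lead.RLR.exists_fin_range_eq hfin.toFinset g hcard
  refine ⟨x, ?_⟩
  rw [hx, Set.Finite.coe_toFinset]
  exact Submodule.span_generators _

/-- a flat module over a regular local ring of dimension `g` has `Ext`-depth `≥ g` -/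
theorem D_of_flat (R : Type u) [CommRing R] [IsRegularLocalRing R] (g : ℕ)
    (hg : ringKrullDim R = g) (F : ModuleCat.{u} R) [Module.Flat R F] : D (kk R) g F := by
  obtain ⟨x, hx⟩ := exists_generators R g hg
  have hreg := Groth.Agent.Lead.RLR.isRegular_ofFn R g hg x hx
  have hw : IsWeaklyRegular F (List.ofFn x) :=
    ((TensorProduct.lid R F).isWeaklyRegular_congr (List.ofFn x)).mp
      (hreg.toIsWeaklyRegular.isWeaklyRegular_rTensor (M₂ := F))
  have := subsingleton_ext_of_isWeaklyRegular (kk R) F (List.ofFn x) (by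
    intro r hr
    refine ⟨1, ?_⟩
    rw [pow_one, Module.mem_annihilator]
    intro z
    obtain ⟨a, rfl⟩ := Submodule.Quotient.mk_surjective _ z
    rw [← Submodule.Quotient.mk_smul, Submodule.Quotient.mk_eq_zero]
    have hrm : r ∈ maximalIdeal R := by
      rw [List.mem_ofFn] at hr
      obtain ⟨i, rfl⟩ := hr
      exact hx ▸ Ideal.subset_span ⟨i, rfl⟩
    exact Ideal.mul_mem_right _ _ hrm) hw
  intro l hl
  exact this l (by rwa [List.length_ofFn])

end regular

end Groth.Agent.H70.Acyc
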